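import Groth.Agent.SpreadCx.Basic
import Groth.Agent.PerfGen7.RelTor.Bound
import Groth.Agent.PerfGen7.RpushRelTor
import Groth.Agent.PerfGen7.TorAmpBC
import Groth.Agent.KFlatLib.Scheme.Tilde
import Groth.Agent.KFlatLib.Perfect.DLocal
import Groth.Agent.QCoh.LocFree
import Mathlib.RingTheory.LocalRing.Module

/-! # Perfect complexes at a point spread to a neighbourhood -/

set_option autoImplicit false
set_option linter.style.haveILetI false
set_option backward.isDefEq.respectTransparency false

universe u

open CategoryTheory CategoryTheory.Limits AlgebraicGeometry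

attribute [local instance] HasDerivedCategory.standard

noncomputable section

namespace Groth.Agent.SpreadCx

open Groth.Agent.KFlatLib Groth.Agent.PerfGen7 Groth.Agent.PerfGen7.RelTor

/-- A perfect complex over a local ring, seen over an isomorphic ring, is free termwise. -/
lemma exists_free_res {C D : Type u} [CommRing C] [CommRing D] [IsLocalRing C] (φ : C ≃+* D)
    (M : ModuleCat.{u} C) [Module.Finite C M] [Module.Projective C M] :
    ∃ n : ℕ, Nonempty (((ModuleCat.restrictScalars φ.symm.toRingHom).obj M) ≃ₗ[D] (Fin n → D)) := by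
  haveI : Module.Free C M := Module.free_of_flat_of_isLocalRing
  let e : M ≃ₗ[C] (Fin (Module.finrank C M) → C) := (Module.finBasis C M).equivFun
  refine ⟨Module.finrank C M, ⟨{ toFun := fun m k => φ (e m k)
                                 invFun := fun v => e.symm fun k => φ.symm (v k)
                                 map_add' := fun a b => ?_
                                 map_smul' := fun r a => ?_
                                 left_inv := fun m => ?_
                                 right_inv := fun v => ?_ }⟩⟩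
  · funext k
    show φ (e (show M from a + b) k) = _
    change φ (e ((show M from a) + (show M from b)) k) = _
    simp
  · funext k
    show φ (e (φ.symm r • (show M from a)) k) = r * φ (e (show M from a) k)
    simp
  · show e.symm (fun k => φ.symm (φ (e m k))) = m
    simp
  · funext k
    show φ (e (e.symm fun k => φ.symm (v k)) k) = v k
    simp

lemma isLocalization_toStalkHom {R : CommRingCat.{u}} (u : Spec R) :
    letI := (toStalkHom u).toAlgebra
    IsLocalization (PrimeSpectrum.asIdeal u).primeCompl ((Spec R).presheaf.stalk u) := by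
  have h : (toStalkHom u).toAlgebra = StructureSheaf.stalkAlgebra R u :=
    Algebra.algebra_ext _ _ fun r => rfl
  rw [h]
  exact StructureSheaf.IsLocalization.to_stalk R u

theorem exists_perfect_nhd {X : Scheme.{u}} (x : X) (P : DRing.Cx (X.presheaf.stalk x : Type u)) (lo hi : ℤ)
    (hv : DRing.VanishesOutside P lo hi) (hP : DRing.TermwiseFiniteProjective P) :
    ∃ (U : X.Opens) (F : CochainComplex X.Modules ℤ), x ∈ U ∧
      DCoh.IsPerfect (DerivedCategory.Q.obj ((DCoh.restrictCx U).obj F)) ∧
      Nonempty (((DerSch.stalkFunctor X x).mapHomologicalComplex (ComplexShape.up ℤ)).obj F ≅ P) := by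
  obtain ⟨_, ⟨W, hW, rfl⟩, hxW, -⟩ :=
    X.isBasis_affineOpens.exists_subset_of_mem_open (Set.mem_univ x) isOpen_univ
  obtain ⟨u, rfl⟩ : x ∈ Set.range hW.fromSpec.base := by rw [hW.range_fromSpec]; exact hxW
  let j := hW.fromSpec
  let R := Γ(X, W)
  haveI : IsIso (j.stalkMap u) := inferInstance
  let φ : X.presheaf.stalk (j.base u) ≃+* (Spec R).presheaf.stalk u :=
    (asIso (j.stalkMap u)).commRingCatIsoToRingEquiv
  let E := (resCx φ.symm.toRingHom).obj P
  have hfree : ∀ i, ∃ n : ℕ, Nonempty (E.X i ≃ₗ[(Spec R).presheaf.stalk u] (Fin n → (Spec R).presheaf.stalk u)) :=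
    fun i => haveI := (hP i).1; haveI := (hP i).2; exists_free_res φ (P.X i)
  have hv' : DRing.VanishesOutside E lo hi := fun i h => (ModuleCat.restrictScalars _).map_isZero (hv i h)
  letI := (toStalkHom (R := R) u).toAlgebra
  haveI := isLocalization_toStalkHom (R := R) u
  obtain ⟨G, hGv, hG, ⟨eG⟩⟩ :=
    exists_lift (A := R) (S := (Spec R).presheaf.stalk u) (PrimeSpectrum.asIdeal u).primeCompl E lo hi hv' hfree
  let T : CochainComplex (Spec R).Modules ℤ :=
    ((tilde.functor R).mapHomologicalComplex (ComplexShape.up ℤ)).obj G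
  let F := ((Scheme.Modules.pushforward j).mapHomologicalComplex (ComplexShape.up ℤ)).obj T
  have hT : DCoh.IsStrictlyPerfect T :=
    ⟨⟨lo, hi, fun i h => (tilde.functor R).map_isZero (hGv i h)⟩, fun i => by
      haveI := (hG i).1
      haveI := (hG i).2
      exact (QCoh.isFinLocFree_tilde_iff (G.X i)).2 ⟨inferInstance, inferInstance⟩⟩
  let c : (rCx j).obj F ≅ T :=
    ((Functor.mapHomologicalComplexCompIso (Iso.refl (Scheme.Modules.pushforward j ⋙
      Scheme.Modules.restrictFunctor j)) (ComplexShape.up ℤ)).app T) ≪≫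
      (NatIso.mapHomologicalComplex (asIso (Scheme.Modules.restrictAdjunction j).counit) (ComplexShape.up ℤ)).app T ≪≫
      (Functor.mapHomologicalComplexIdIso _ _).app T
  refine ⟨j.opensRange, F, ⟨u, rfl⟩, ?_, ?_⟩
  · let k : Spec R ⟶ (j.opensRange : Scheme.{u}) :=
      (IsOpenImmersion.isoOfRangeEq j j.opensRange.ι (by simp)).hom
    have hk : k ≫ j.opensRange.ι = j := IsOpenImmersion.isoOfRangeEq_hom_fac _ _ _
    refine (isPerfect_iff _).2 fun y => ⟨_, k, inferInstance, k.surjective y, T, hT, ⟨?_⟩⟩
    exact (DerivedCategory.Q.mapIso c).symm ≪≫ ((rhoQ j).app F).symm ≪≫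
      (rhoComp k j.opensRange.ι j hk (DerivedCategory.Q.obj F)).symm ≪≫
      (rho k).mapIso ((rhoQ j.opensRange.ι).app F)
  · let f := 𝟙 X
    let st := DerSch.stalkFunctor (Spec R) u
    let e1 : (DerSch.stalkCxOver f (j.base u)).obj F ≅ (DerSch.stalkCxOver (j ≫ f) u).obj T :=
      (NatIso.mapHomologicalComplex (stalkOverRestrictIso (f := f) j u).symm (ComplexShape.up ℤ)).app F ≪≫
        ((Functor.mapHomologicalComplexCompIso (Iso.refl (Scheme.Modules.restrictFunctor j ⋙
          DerSch.stalkOver (j ≫ f) u)) (ComplexShape.up ℤ)).app F).symm ≪≫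
        (DerSch.stalkCxOver (j ≫ f) u).mapIso c
    let e2 : (DerSch.stalkCxOver (j ≫ f) u).obj T ≅ (resCx ((j ≫ f).stalkMap u).hom).obj E :=
      stalkCxOverIso (j ≫ f) u T ≪≫ (resCx ((j ≫ f).stalkMap u).hom).mapIso
        ((((Functor.mapHomologicalComplexCompIso (Iso.refl (tilde.functor R ⋙ st)) (ComplexShape.up ℤ)).app G) ≪≫
          (NatIso.mapHomologicalComplex (stalkTildeIso (R := R) u) (ComplexShape.up ℤ)).app G) ≪≫ eG)
    have hφ : (φ.symm.toRingHom).comp ((j ≫ f).stalkMap u).hom = (f.stalkMap (j.base u)).hom := by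
      ext a
      show φ.symm (((j ≫ f).stalkMap u).hom a) = _
      rw [Scheme.Hom.stalkMap_comp]
      exact φ.symm_apply_apply _
    let e3 := e1 ≪≫ e2 ≪≫ (TorAmpBC.resCompIso hφ P).symm
    let e4 := (stalkCxOverIso f (j.base u) F).symm ≪≫ e3
    have hid : (f.stalkMap (j.base u)).hom = RingHom.id _ := by simp [f]
    let ι₀ := ModuleCat.restrictScalarsId' (f.stalkMap (j.base u)).hom hid
    exact ⟨((NatIso.mapHomologicalComplex ι₀ (ComplexShape.up ℤ)).app _ ≪≫
        (Functor.mapHomologicalComplexIdIso _ _).app _).symm ≪≫ e4 ≪≫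
      (NatIso.mapHomologicalComplex ι₀ (ComplexShape.up ℤ)).app P ≪≫
        (Functor.mapHomologicalComplexIdIso _ _).app P⟩

end Groth.Agent.SpreadCx
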