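import Groth.Prelude.Def_DRing2
import Mathlib.Algebra.Category.ModuleCat.ChangeOfRings
import Mathlib.LinearAlgebra.Matrix.ToLin
import Mathlib.RingTheory.Localization.Integer
import Mathlib.RingTheory.TensorProduct.Free
import Mathlib.Order.Interval.Finset.Basic
import Mathlib.Data.Int.Interval

/-!
# A bounded complex of free modules over a localisation comes from the ring
-/

set_option autoImplicit false
set_option linter.style.haveILetI false
set_option backward.isDefEq.respectTransparency false

universe u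

open CategoryTheory CategoryTheory.Limits

noncomputable section

namespace Groth.Agent.SpreadCx

variable {A S : Type u} [CommRing A] [CommRing S]

/-- The map of modules sending a vector over `A` to the element with these coordinates. -/
def coordMap (ψ : A →+* S) {M : ModuleCat.{u} S} {n : ℕ} (e : M ≃ₗ[S] (Fin n → S)) (c : S) :
    ModuleCat.of A (Fin n → A) ⟶ (ModuleCat.restrictScalars (ψ)).obj M :=
  ModuleCat.ofHom (Y := (ModuleCat.restrictScalars (ψ)).obj M)
    { toFun := fun a => e.symm (c • fun k => ψ (a k))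
      map_add' := fun a b => by
        show e.symm (c • fun k => ψ (a k + b k)) = (_ : M) + _
        rw [← map_add, ← smul_add]
        congr 1
        congr 1
        funext k
        simp
      map_smul' := fun r a => by
        show e.symm (c • fun k => ψ (r * a k)) = ψ r • (_ : M)
        rw [← map_smul, smul_comm]
        congr 1
        congr 1
        funext k
        simp }

/-- The base change of `coordMap` is bijective. -/
lemma isIso_coordMap (ψ : A →+* S) {M : ModuleCat.{u} S} {n : ℕ} (e : M ≃ₗ[S] (Fin n → S)) (c : S) (hc : IsUnit c) :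
    IsIso (((ModuleCat.extendRestrictScalarsAdj (ψ)).homEquiv _ M).symm (coordMap ψ e c)) := by
  classical
  letI : Algebra A S := ψ.toAlgebra
  rw [ConcreteCategory.isIso_iff_bijective]
  let θ := ((ModuleCat.extendRestrictScalarsAdj (ψ)).homEquiv _ M).symm (coordMap ψ e c)
  let b : Module.Basis (Fin n) S (TensorProduct A S (Fin n → A)) := (Pi.basisFun A (Fin n)).baseChange S
  let b' : Module.Basis (Fin n) S M :=
    (((Pi.basisFun S (Fin n)).map e.symm)).unitsSMul fun _ => hc.unit
  let L : TensorProduct A S (Fin n → A) →ₗ[S] M := (b.equiv b' (Equiv.refl _)).toLinearMap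
  let θ' : TensorProduct A S (Fin n → A) →ₗ[S] M := θ.hom
  suffices h : θ' = L by
    show Function.Bijective θ'
    rw [h]
    exact (b.equiv b' (Equiv.refl _)).bijective
  refine b.ext fun k => ?_
  show θ' (b k) = (b.equiv b' (Equiv.refl _)) (b k)
  rw [Module.Basis.equiv_apply]
  show θ' (b k) = b' k
  have key : θ' (TensorProduct.tmul A (1 : S) (Pi.single k (1 : A))) =
      e.symm (c • fun l => ψ ((Pi.single k (1 : A) : Fin n → A) l)) := by
    have h := ModuleCat.extendRestrictScalarsAdj_homEquiv_apply θ (Pi.single k (1 : A) : Fin n → A)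
    rw [show (ModuleCat.extendRestrictScalarsAdj (ψ)).homEquiv _ M θ = coordMap ψ e c from
      Equiv.apply_symm_apply _ _] at h
    exact h.symm
  have hb : b k = TensorProduct.tmul A (1 : S) (Pi.single k (1 : A)) := by
    simp [b, Pi.basisFun_apply]
  rw [hb, key]
  simp only [b', Module.Basis.unitsSMul_apply, Module.Basis.map_apply, Pi.basisFun_apply,
    Units.smul_def, IsUnit.unit_spec]
  rw [map_smul]
  congr 2
  funext l
  rcases eq_or_ne l k with rfl | h <;> simp [*]

/-- A bounded complex of finite free modules over a localisation is the base change of one over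
the ring. -/
theorem exists_lift [Algebra A S] (M : Submonoid A) [IsLocalization M S] (E : DRing.Cx S) (lo hi : ℤ)
    (hv : DRing.VanishesOutside E lo hi) (hfree : ∀ i, ∃ n : ℕ, Nonempty (E.X i ≃ₗ[S] (Fin n → S)))
    [Nontrivial S] :
    ∃ G : DRing.Cx A, DRing.VanishesOutside G lo hi ∧
      (∀ i, Module.Free A (G.X i) ∧ Module.Finite A (G.X i)) ∧
      Nonempty (((ModuleCat.extendScalars (algebraMap A S)).mapHomologicalComplex (ComplexShape.up ℤ)).obj G ≅ E) := by
  classical
  choose n e using hfree
  let ε := fun i => (e i).some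
  have hn : ∀ i, (i < lo ∨ hi < i) → n i = 0 := by
    intro i h
    haveI := ModuleCat.subsingleton_of_isZero (hv i h)
    haveI : Subsingleton (Fin (n i) → S) := (ε i).symm.injective.subsingleton
    by_contra h0
    haveI : Nonempty (Fin (n i)) := ⟨⟨0, Nat.pos_of_ne_zero h0⟩⟩
    exact not_subsingleton (Fin (n i) → S) inferInstance
  let D : ∀ i, Matrix (Fin (n (i + 1))) (Fin (n i)) S := fun i =>
    LinearMap.toMatrix' ((ε (i + 1)).toLinearMap ∘ₗ (E.d i (i + 1)).hom ∘ₗ (ε i).symm.toLinearMap)
  let ι := (i : Finset.Icc lo hi) × (Fin (n ((i : ℤ) + 1)) × Fin (n (i : ℤ)))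
  obtain ⟨s, hs⟩ := IsLocalization.exist_integer_multiples_of_finite M
    (fun q : ι => D q.1 q.2.1 q.2.2)
  have hint : ∀ i (k : Fin (n (i + 1))) (l : Fin (n i)), ∃ a : A, algebraMap A S a = (s : A) • D i k l := by
    intro i k l
    by_cases h : i ∈ Finset.Icc lo hi
    · exact hs ⟨⟨i, h⟩, k, l⟩
    · have h0 := hn i (by rw [Finset.mem_Icc] at h; omega); have := l.isLt; omega
  choose N hN using hint
  have hDD : ∀ i, D (i + 1) * D i = 0 := by
    intro i
    rw [← LinearMap.toMatrix'_comp]
    refine (congrArg LinearMap.toMatrix' ?_).trans (map_zero _)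
    ext v k
    simp only [LinearMap.comp_apply, LinearEquiv.coe_coe, LinearEquiv.symm_apply_apply]
    have h := E.d_comp_d i (i + 1) (i + 1 + 1)
    rw [← ModuleCat.comp_apply, h]
    simp
  have hP : ∀ i (k : Fin (n (i + 1 + 1))) (l : Fin (n i)),
      algebraMap A S ((Matrix.of (N (i + 1)) * Matrix.of (N i)) k l) = 0 := by
    intro i k l
    have := congrFun (congrFun (hDD i) k) l
    simp only [Matrix.mul_apply, Matrix.of_apply, map_sum, map_mul, hN, Matrix.zero_apply] at this ⊢
    simp only [Algebra.smul_mul_assoc, Algebra.mul_smul_comm, ← Finset.smul_sum, this, smul_zero]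
  have hkill : ∀ i (k : Fin (n (i + 1 + 1))) (l : Fin (n i)),
      ∃ t : M, (t : A) * (Matrix.of (N (i + 1)) * Matrix.of (N i)) k l = 0 := fun i k l =>
    (IsLocalization.map_eq_zero_iff M S _).1 (hP i k l)
  choose t ht using hkill
  let κ := (i : Finset.Icc lo hi) × (Fin (n ((i : ℤ) + 1 + 1)) × Fin (n (i : ℤ)))
  let T : M := ∏ q : κ, t q.1 q.2.1 q.2.2
  let N' : ∀ i, Matrix (Fin (n (i + 1))) (Fin (n i)) A := fun i => (T : A) • Matrix.of (N i)
  have hN' : ∀ i, N' (i + 1) * N' i = 0 := by
    intro i
    ext k l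
    by_cases h : i ∈ Finset.Icc lo hi
    · obtain ⟨c, hc⟩ : (t i k l : A) ∣ (T : A) := by
        show _ ∣ ((∏ q : κ, t q.1 q.2.1 q.2.2 : M) : A)
        rw [Submonoid.coe_finsetProd]
        exact Finset.dvd_prod_of_mem (fun q : κ => (t q.1 q.2.1 q.2.2 : A))
          (Finset.mem_univ (⟨⟨i, h⟩, k, l⟩ : κ))
      simp only [N', Matrix.smul_mul, Matrix.mul_smul, Matrix.smul_apply, Matrix.zero_apply,
        smul_eq_mul]
      rw [hc]
      calc _ = (T : A) * c * ((t i k l : A) * (Matrix.of (N (i + 1)) * Matrix.of (N i)) k l) := by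
            rw [hc]; ring
        _ = 0 := by rw [ht, mul_zero]
    · have h0 := hn i (by rw [Finset.mem_Icc] at h; omega); have := l.isLt; omega
  let G : DRing.Cx A := CochainComplex.of (fun i => ModuleCat.of A (Fin (n i) → A))
    (fun i => ModuleCat.ofHom (Matrix.toLin' (N' i))) (fun i => by
      ext1
      show Matrix.toLin' (N' (i + 1)) ∘ₗ Matrix.toLin' (N' i) = 0
      rw [← Matrix.toLin'_mul, hN', map_zero])
  let c : Sˣ := ((IsLocalization.map_units S (T * s)).unit)
  have hc : (c : S) = algebraMap A S ((T : A) * (s : A)) := rfl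
  let θ : ∀ i, (ModuleCat.extendScalars (algebraMap A S)).obj (G.X i) ⟶ E.X i := fun i =>
    ((ModuleCat.extendRestrictScalarsAdj (algebraMap A S)).homEquiv _ (E.X i)).symm
      (coordMap (algebraMap A S) (ε i) ((c ^ (-i) : Sˣ) : S))
  haveI hθ : ∀ i, IsIso (θ i) := fun i => isIso_coordMap _ (ε i) _ (Units.isUnit _)
  refine ⟨G, fun i h => ?_, fun i => ⟨?_, ?_⟩, ⟨HomologicalComplex.Hom.isoOfComponents
    (fun i => asIso (θ i)) ?_⟩⟩
  · haveI : IsEmpty (Fin (n i)) := by rw [hn i h]; infer_instance
    exact ModuleCat.isZero_of_subsingleton _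
  · exact inferInstanceAs (Module.Free A (Fin (n i) → A))
  · exact inferInstanceAs (Module.Finite A (Fin (n i) → A))
  rintro i _ rfl
  apply ((ModuleCat.extendRestrictScalarsAdj (algebraMap A S)).homEquiv _ _).injective
  show ((ModuleCat.extendRestrictScalarsAdj (algebraMap A S)).homEquiv _ _) (θ i ≫ E.d i (i + 1)) =
    ((ModuleCat.extendRestrictScalarsAdj (algebraMap A S)).homEquiv _ _)
      ((ModuleCat.extendScalars (algebraMap A S)).map (G.d i (i + 1)) ≫ θ (i + 1))
  rw [Adjunction.homEquiv_naturality_right, Adjunction.homEquiv_naturality_left,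
    Equiv.apply_symm_apply, Equiv.apply_symm_apply,
    show G.d i (i + 1) = ModuleCat.ofHom (Matrix.toLin' (N' i)) by simp [G]]
  refine ModuleCat.hom_ext (LinearMap.ext fun (a : Fin (n i) → A) => ?_)
  show (E.d i (i + 1)).hom ((ε i).symm (((c ^ (-i) : Sˣ) : S) • fun k => algebraMap A S (a k))) =
    (ε (i + 1)).symm (((c ^ (-(i + 1)) : Sˣ) : S) • fun k => algebraMap A S ((Matrix.toLin' (N' i)) a k))
  apply (ε (i + 1)).injective
  rw [LinearEquiv.apply_symm_apply, map_smul, map_smul, map_smul]
  funext k
  have hD : (ε (i + 1)) ((E.d i (i + 1)).hom ((ε i).symm fun k => algebraMap A S (a k))) =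
      (D i).mulVec fun k => algebraMap A S (a k) := by
    show _ = (LinearMap.toMatrix' _).mulVec _
    rw [← Matrix.toLin'_apply, Matrix.toLin'_toMatrix']
    rfl
  rw [hD]
  simp only [Pi.smul_apply, smul_eq_mul, Matrix.mulVec, dotProduct, Matrix.toLin'_apply, N',
    Matrix.smul_apply, Matrix.of_apply, map_sum, map_mul, hN, Finset.mul_sum]
  refine Finset.sum_congr rfl fun l _ => ?_
  rw [Algebra.smul_def, show (c ^ (-i) : Sˣ) = c ^ (-(i + 1)) * c by
    rw [← zpow_add_one]; congr 1; ring, Units.val_mul, hc, map_mul]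
  ring

end Groth.Agent.SpreadCx
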